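import Mathlib
import Cfsg.Agent.S0016

set_option autoImplicit false

/-! ES9 piece C1.  A finite 2-group with at most one involution is cyclic or generalized quaternion.

PROOF. `Cfsg.Agent.S0016.result 2 h2 ?_`: two subgroups `H K` of order 2 are `{1, x}`, `{1, y}` with `orderOf x = 2 = orderOf y`
(a group of order 2 is `zpowers` of a generator of order 2: `isCyclic_of_prime_card`, `orderOf_eq_card_of_forall_mem_zpowers`), so
`x = y` and `H = K`. -/

namespace Cfsg.Agent.Lib.Helper47.ES9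

theorem C1_exists_gen {D : Type*} [Group D] [Finite D] (H : Subgroup D) (hH : Nat.card H = 2) :
    ∃ x : D, orderOf x = 2 ∧ H = Subgroup.zpowers x := by
  have : Fact (Nat.Prime 2) := ⟨Nat.prime_two⟩
  have hc : IsCyclic H := isCyclic_of_prime_card hH
  obtain ⟨g, hg⟩ := IsCyclic.exists_generator (α := H)
  have ho : orderOf g = 2 := by rw [orderOf_eq_card_of_forall_mem_zpowers hg, hH]
  refine ⟨g.1, by rw [Subgroup.orderOf_coe, ho], ?_⟩
  symm
  apply Subgroup.eq_of_le_of_card_ge (Subgroup.zpowers_le.2 g.2)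
  rw [Nat.card_zpowers, Subgroup.orderOf_coe, ho, hH]

theorem cyclic_or_quat {D : Type*} [Group D] [Finite D] (h2 : IsPGroup 2 D)
    (huniq : ∀ x y : D, orderOf x = 2 → orderOf y = 2 → x = y) :
    IsCyclic D ∨ ∃ n : ℕ, Nonempty (D ≃* QuaternionGroup (2 ^ n)) := by
  have : Fact (Nat.Prime 2) := ⟨Nat.prime_two⟩
  have hu : ∀ H K : Subgroup D, Nat.card H = 2 → Nat.card K = 2 → H = K := by
    intro H K hH hK
    obtain ⟨x, hx, rfl⟩ := C1_exists_gen H hH
    obtain ⟨y, hy, rfl⟩ := C1_exists_gen K hK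
    rw [huniq x y hx hy]
  rcases Cfsg.Agent.S0016.result 2 h2 hu with h | ⟨-, h⟩
  · exact Or.inl h
  · exact Or.inr h

end Cfsg.Agent.Lib.Helper47.ES9
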