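import Mathlib
import Cfsg.Agent.S0016

set_option autoImplicit false

/-! ES9 piece A.  A noncyclic abelian `p`-group has two "independent" elements of order `p`.

PROOF. If any two subgroups of order `p` coincide, then `Cfsg.Agent.S0016.result p hG huniq` gives `IsCyclic G`
(excluded) or `p = 2` and `G ≃* QuaternionGroup (2 ^ n)`; for `n = 0` that group is cyclic
(`QuaternionGroup.quaternionGroup_one_isCyclic`), for `n ≥ 1` it is not commutative
(`a 1 * xa 0 ≠ xa 0 * a 1` since `1 ≠ -1` in `ZMod (2 * 2 ^ n)`), contradiction.  So there are subgroups `H ≠ K` of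
order `p`; they are cyclic of prime order, `H ⊓ K = ⊥`.  Take `1 ≠ a ∈ H`, `1 ≠ b ∈ K`: `a ^ p = 1 = b ^ p`, and
`a * b ^ i = 1` would give `a = (b ^ i)⁻¹ ∈ H ⊓ K = ⊥`.
(Any other proof is fine, e.g. from a library lemma on the rank of abelian `p`-groups.) -/

namespace Cfsg.Agent.Lib.Helper47.ES9

theorem A_order {G : Type*} [Group G] [Finite G] {p : ℕ} [Fact p.Prime] (H : Subgroup G)
    (hH : Nat.card H = p) {x : G} (hx : x ∈ H) (hx1 : x ≠ 1) :
    orderOf x = p ∧ Subgroup.zpowers x = H := by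
  have hp : p.Prime := Fact.out
  have h1 : orderOf x ∣ p := hH ▸ Subgroup.orderOf_dvd_natCard H hx
  have h2 : orderOf x = p := by
    rcases (Nat.dvd_prime hp).1 h1 with h | h
    · exact absurd (orderOf_eq_one_iff.1 h) hx1
    · exact h
  refine ⟨h2, ?_⟩
  apply Subgroup.eq_of_le_of_card_ge (Subgroup.zpowers_le.2 hx)
  rw [Nat.card_zpowers, h2, hH]

theorem A_exists_ne {G : Type*} [Group G] [Finite G] {p : ℕ} [Fact p.Prime] (H : Subgroup G)
    (hH : Nat.card H = p) : ∃ x ∈ H, x ≠ 1 := by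
  have hp : p.Prime := Fact.out
  have hne : H ≠ ⊥ := by
    rintro rfl
    rw [Subgroup.card_bot] at hH
    exact hp.one_lt.ne hH
  obtain ⟨x, hx1⟩ := Subgroup.ne_bot_iff_exists_ne_one.1 hne
  exact ⟨x, x.2, fun h => hx1 (Subtype.ext h)⟩

theorem exists_ab {G : Type*} [Group G] [Finite G] {p : ℕ} [Fact p.Prime] (hG : IsPGroup p G)
    (hc : ∀ x y : G, x * y = y * x) (hnc : ¬ IsCyclic G) :
    ∃ a b : G, a ^ p = 1 ∧ b ^ p = 1 ∧ b ≠ 1 ∧ ∀ i : ℕ, a * b ^ i ≠ 1 := by
  by_cases huniq : ∀ H K : Subgroup G, Nat.card H = p → Nat.card K = p → H = K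
  · exfalso
    rcases Cfsg.Agent.S0016.result p hG huniq with h | ⟨-, n, ⟨e⟩⟩
    · exact hnc h
    · cases n with
      | zero =>
        apply hnc
        have h1 : IsCyclic (QuaternionGroup (2 ^ 0)) := by
          rw [pow_zero]
          exact QuaternionGroup.quaternionGroup_one_isCyclic
        exact isCyclic_of_surjective e.symm e.symm.surjective
      | succ n =>
        have h1 := hc (e.symm (QuaternionGroup.a 1)) (e.symm (QuaternionGroup.xa 0))
        rw [← map_mul, ← map_mul] at h1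
        have h2 := e.symm.injective h1
        rw [QuaternionGroup.a_mul_xa, QuaternionGroup.xa_mul_a] at h2
        have h3 : (0 : ZMod (2 * 2 ^ (n + 1))) - 1 = 0 + 1 := by
          injection h2
        have h4 : ((2 : ℕ) : ZMod (2 * 2 ^ (n + 1))) = 0 := by
          push_cast
          linear_combination -h3
        rw [ZMod.natCast_eq_zero_iff] at h4
        have h5 := Nat.le_of_dvd (by norm_num) h4
        have h6 : 1 ≤ 2 ^ n := Nat.one_le_two_pow
        rw [pow_succ] at h5
        omega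
  · push Not at huniq
    obtain ⟨H, K, hH, hK, hne⟩ := huniq
    obtain ⟨a, ha, ha1⟩ := A_exists_ne H hH
    obtain ⟨b, hb, hb1⟩ := A_exists_ne K hK
    obtain ⟨hoa, hza⟩ := A_order H hH ha ha1
    obtain ⟨hob, hzb⟩ := A_order K hK hb hb1
    refine ⟨a, b, by rw [← hoa, pow_orderOf_eq_one], by rw [← hob, pow_orderOf_eq_one], hb1, ?_⟩
    intro i hi
    have h1 : a = (b ^ i)⁻¹ := eq_inv_of_mul_eq_one_left hi
    have h2 : a ∈ K := h1 ▸ K.inv_mem (K.pow_mem hb i)
    have h3 : H ≤ K := hza ▸ Subgroup.zpowers_le.2 h2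
    exact hne (Subgroup.eq_of_le_of_card_ge h3 (by rw [hH, hK]))

end Cfsg.Agent.Lib.Helper47.ES9
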