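import Mathlib

set_option autoImplicit false

/-! # Definitions for S2934 (noncyclic abelian `p`-group acting on a 2-group, fixed points with at
most one involution) -/

namespace Cfsg.Agent.Lib.Helper47.ES9

variable {W : Type*} [Group W]

/-- fixed points of an automorphism -/
def fix (e : MulAut W) : Subgroup W where
  carrier := {x | e x = x}
  mul_mem' := by
    intro x y hx hy
    show e (x * y) = x * y
    rw [map_mul, show e x = x from hx, show e y = y from hy]
  one_mem' := map_one e
  inv_mem' := by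
    intro x hx
    show e x⁻¹ = x⁻¹
    rw [map_inv, show e x = x from hx]

theorem mem_fix {e : MulAut W} {x : W} : x ∈ fix e ↔ e x = x := Iff.rfl

/-- `X` is invariant under every element of `E` -/
def Inv (E : Subgroup (MulAut W)) (X : Subgroup W) : Prop := ∀ e ∈ E, ∀ x ∈ X, e x ∈ X

/-- the pointwise stabilizer of `D` in `E` -/
def ptStab (E : Subgroup (MulAut W)) (D : Subgroup W) : Subgroup ↥E where
  carrier := {e | ∀ x ∈ D, (e : MulAut W) x = x}
  mul_mem' := by
    intro e f he hf x hx
    show (e : MulAut W) ((f : MulAut W) x) = x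
    rw [hf x hx, he x hx]
  one_mem' := fun x _ => rfl
  inv_mem' := by
    intro e he x hx
    show (e : MulAut W)⁻¹ x = x
    have h1 : (e : MulAut W)⁻¹ ((e : MulAut W) x) = x := MulAut.inv_apply_self W _ x
    rw [he x hx] at h1
    exact h1

theorem mem_ptStab {E : Subgroup (MulAut W)} {D : Subgroup W} {e : ↥E} :
    e ∈ ptStab E D ↔ ∀ x ∈ D, (e : MulAut W) x = x := Iff.rfl

/-- `D` looks like `{1, z}` or like a quaternion group of order 8 with centre `{1, z}` on which `E`
acts rigidly. -/
structure Nice (E : Subgroup (MulAut W)) (z : W) (D : Subgroup W) : Prop where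
  sq : ∀ x ∈ D, x * x = 1 ∨ x * x = z
  comm : ∀ x ∈ D, ∀ y ∈ D, x * y = y * x ∨ x * y = z * (y * x)
  cen : ∀ x ∈ D, x * z = z * x
  card_le : Nat.card D ≤ 8
  rigid : ∀ e ∈ E, ∀ x ∈ D, e x = x → x * x ≠ 1 → ∀ y ∈ D, e y = y
  self : ∀ x ∈ D, ∀ y ∈ D, x * x ≠ 1 → x * y = y * x → y = 1 ∨ y = x ∨ y = z ∨ y = x * z

end Cfsg.Agent.Lib.Helper47.ES9
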