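import Mathlib
import Cfsg.Agent.Lib.Helper22.Generation
import Cfsg.Agent.Lib.Helper47.ES9.Defs

set_option autoImplicit false

/-! ES9 piece B.  Generation by fixed points (coprime action of `C_p × C_p`), `MulAut` form.

PROOF. Bridge to the LANDED ambient-group theorem `Cfsg.Agent.Lib.Helper22.le_genTwo`
(`X ≤ genTwo X a b = (X ⊓ centralizer {b}) ⊔ ⨆ i, X ⊓ centralizer {a * b ^ i}` for a `p`-subgroup `A ∋ a, b` normalizing the
`p'`-subgroup `X`).  Work in the holomorph `G := W ⋊[MonoidHom.id (MulAut W)] MulAut W` (finite), `ι = SemidirectProduct.inl`,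
`a' = inr a`, `b' = inr b`, `A = closure {a', b'}` (or `(closure {a,b}).map inr`; it is a `p`-group: abelian, generated by
elements of order dividing `p`; e.g. every element is `a'^i b'^j`, so its `p`-th power is 1), `X' = X.map inl`
(`Nat.card X' = Nat.card X ∣ Nat.card W`, so `p ∤`).  `inr e * inl x * (inr e)⁻¹ = inl (e x)` (`SemidirectProduct.inl_aut`), so
`a', b'` normalize `X'` and `inl x ∈ centralizer {inr e} ↔ e x = x`.  Hence `X' ⊓ centralizer {inr e} = (X ⊓ fix e).map inl`;
`map inl` commutes with `⊔`/`⨆` (`Subgroup.map_sup`, `Subgroup.map_iSup`) and is injective on subgroups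
(`Subgroup.map_le_map_iff_of_injective`). -/

namespace Cfsg.Agent.Lib.Helper47.ES9

/-- the subgroup generated by two commuting elements of order dividing `p` is a `p`-group. -/
theorem B_isPGroup {G : Type*} [Group G] {p : ℕ} [Fact p.Prime] (a b : G) (hab : a * b = b * a)
    (ha : a ^ p = 1) (hb : b ^ p = 1) : IsPGroup p (Subgroup.closure ({a, b} : Set G)) := by
  have hp : p.Prime := Fact.out
  have hc : Commute a b := hab
  have key : ∀ g ∈ Subgroup.closure ({a, b} : Set G), ∃ i j : ℕ, g = a ^ i * b ^ j := by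
    intro g hg
    induction hg using Subgroup.closure_induction with
    | mem x hx =>
      rcases hx with rfl | rfl
      · exact ⟨1, 0, by simp⟩
      · exact ⟨0, 1, by simp⟩
    | one => exact ⟨0, 0, by simp⟩
    | mul x y _ _ hx hy =>
      obtain ⟨i, j, rfl⟩ := hx
      obtain ⟨i', j', rfl⟩ := hy
      refine ⟨i + i', j + j', ?_⟩
      have h1 : Commute (b ^ j) (a ^ i') := (hc.pow_pow i' j).symm
      calc a ^ i * b ^ j * (a ^ i' * b ^ j') = a ^ i * (b ^ j * a ^ i') * b ^ j' := by group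
        _ = a ^ i * (a ^ i' * b ^ j) * b ^ j' := by rw [h1.eq]
        _ = a ^ (i + i') * b ^ (j + j') := by rw [pow_add, pow_add]; group
    | inv x _ hx =>
      obtain ⟨i, j, rfl⟩ := hx
      refine ⟨i * (p - 1), j * (p - 1), ?_⟩
      apply inv_eq_of_mul_eq_one_left
      have h1 : Commute (b ^ (j * (p - 1))) (a ^ i) := (hc.pow_pow i (j * (p - 1))).symm
      have e1 : i * (p - 1) + i = p * i := by
        have := Nat.sub_add_cancel hp.one_le
        calc i * (p - 1) + i = i * (p - 1 + 1) := by ring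
          _ = p * i := by rw [this, mul_comm]
      have e2 : j * (p - 1) + j = p * j := by
        have := Nat.sub_add_cancel hp.one_le
        calc j * (p - 1) + j = j * (p - 1 + 1) := by ring
          _ = p * j := by rw [this, mul_comm]
      calc a ^ (i * (p - 1)) * b ^ (j * (p - 1)) * (a ^ i * b ^ j)
          = a ^ (i * (p - 1)) * (b ^ (j * (p - 1)) * a ^ i) * b ^ j := by group
        _ = a ^ (i * (p - 1)) * (a ^ i * b ^ (j * (p - 1))) * b ^ j := by rw [h1.eq]
        _ = a ^ (i * (p - 1) + i) * b ^ (j * (p - 1) + j) := by rw [pow_add, pow_add]; group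
        _ = 1 := by rw [e1, e2, pow_mul, pow_mul, ha, hb, one_pow, one_pow, one_mul]
  intro g
  refine ⟨1, ?_⟩
  obtain ⟨i, j, hg⟩ := key g.1 g.2
  apply Subtype.ext
  rw [pow_one, Subgroup.coe_pow, hg, (hc.pow_pow i j).mul_pow, ← pow_mul, ← pow_mul, mul_comm i,
    mul_comm j, pow_mul, pow_mul, ha, hb, one_pow, one_pow, one_mul]
  rfl

theorem gen_fix {W : Type*} [Group W] [Finite W] {p : ℕ} [Fact p.Prime] (hpW : ¬ p ∣ Nat.card W)
    (a b : MulAut W) (hab : a * b = b * a) (ha : a ^ p = 1) (hb : b ^ p = 1) (X : Subgroup W)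
    (hXa : ∀ x ∈ X, a x ∈ X) (hXb : ∀ x ∈ X, b x ∈ X) :
    X ≤ (X ⊓ fix b) ⊔ ⨆ i : ℕ, X ⊓ fix (a * b ^ i) := by
  have hfinA : Finite (MulAut W) :=
    Finite.of_injective (fun f => (f : W → W)) DFunLike.coe_injective
  have hfinG : Finite (W ⋊[MonoidHom.id (MulAut W)] MulAut W) :=
    Finite.of_equiv _ SemidirectProduct.equivProd.symm
  set ι : W →* W ⋊[MonoidHom.id (MulAut W)] MulAut W := SemidirectProduct.inl with hι
  set r : MulAut W →* W ⋊[MonoidHom.id (MulAut W)] MulAut W := SemidirectProduct.inr with hr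
  have hιinj : Function.Injective ι := SemidirectProduct.inl_injective
  have hconj : ∀ (e : MulAut W) (x : W), r e * ι x * (r e)⁻¹ = ι (e x) := by
    intro e x
    have := SemidirectProduct.inl_aut (φ := MonoidHom.id (MulAut W)) e x
    rw [hr, hι, ← map_inv]
    exact this.symm
  have hnorm : ∀ e : MulAut W, (∀ x ∈ X, e x ∈ X) → (∀ x ∈ X, e⁻¹ x ∈ X) →
      r e ∈ Subgroup.normalizer ((X.map ι : Subgroup _) : Set _) := by
    intro e h1 h2
    rw [Subgroup.mem_normalizer_iff]
    intro g
    constructor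
    · rintro ⟨x, hx, rfl⟩
      rw [hconj]
      exact ⟨e x, h1 x hx, rfl⟩
    · rintro ⟨y, hy, hyg⟩
      refine ⟨e⁻¹ y, h2 y hy, ?_⟩
      have h3 := hconj e⁻¹ y
      rw [← h3, hyg, map_inv]
      group
  have hinvpow : ∀ e : MulAut W, e ^ p = 1 → (∀ x ∈ X, e x ∈ X) → ∀ x ∈ X, e⁻¹ x ∈ X := by
    intro e he h1
    have hp : p.Prime := Fact.out
    have h2 : e⁻¹ = e ^ (p - 1) := by
      apply inv_eq_of_mul_eq_one_left
      rw [← pow_succ, Nat.sub_add_cancel hp.one_le, he]
    rw [h2]
    generalize p - 1 = t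
    induction t with
    | zero => intro x hx; simpa using hx
    | succ t ih =>
      intro x hx
      rw [pow_succ', MulAut.mul_apply]
      exact h1 _ (ih x hx)
  have hA := B_isPGroup (r a) (r b) (by rw [← map_mul, ← map_mul, hab])
    (by rw [← map_pow, ha, map_one]) (by rw [← map_pow, hb, map_one])
  have hcard : ¬ p ∣ Nat.card (X.map ι) := by
    rw [Subgroup.card_map_of_injective hιinj]
    exact fun h => hpW (h.trans (Subgroup.card_subgroup_dvd_card X))
  have hAX : Subgroup.closure ({r a, r b} : Set _) ≤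
      Subgroup.normalizer ((X.map ι : Subgroup _) : Set _) := by
    rw [Subgroup.closure_le]
    rintro g (rfl | rfl)
    · exact hnorm a hXa (hinvpow a ha hXa)
    · exact hnorm b hXb (hinvpow b hb hXb)
  have key := Cfsg.Agent.Lib.Helper22.le_genTwo (Subgroup.closure ({r a, r b} : Set _)) (X.map ι) hA
    hcard hAX (r a) (r b) (Subgroup.subset_closure (by simp)) (Subgroup.subset_closure (by simp))
    (by rw [← map_mul, ← map_mul, hab]) (by rw [← map_pow, ha, map_one])
    (by rw [← map_pow, hb, map_one])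
  have hcent : ∀ e : MulAut W, X.map ι ⊓ Subgroup.centralizer {r e} = (X ⊓ fix e).map ι := by
    intro e
    ext g
    constructor
    · rintro ⟨⟨x, hx, rfl⟩, h2⟩
      refine ⟨x, ⟨hx, ?_⟩, rfl⟩
      have h3 : r e * ι x = ι x * r e := (Subgroup.mem_centralizer_singleton_iff.1 h2).symm
      apply hιinj
      rw [← hconj, h3, mul_inv_cancel_right]
    · rintro ⟨x, ⟨hx, hfx⟩, rfl⟩
      refine ⟨⟨x, hx, rfl⟩, ?_⟩
      apply Subgroup.mem_centralizer_singleton_iff.2
      have h3 := hconj e x
      rw [show e x = x from hfx] at h3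
      exact (mul_inv_eq_iff_eq_mul.1 h3).symm
  rw [Cfsg.Agent.Lib.Helper22.genTwo, hcent] at key
  have h5 : ∀ i : ℕ, X.map ι ⊓ Subgroup.centralizer {r a * r b ^ i} = (X ⊓ fix (a * b ^ i)).map ι := by
    intro i
    rw [← map_pow, ← map_mul, hcent]
  simp only [h5] at key
  rw [← Subgroup.map_iSup, ← Subgroup.map_sup, Subgroup.map_le_map_iff_of_injective hιinj] at key
  exact key

end Cfsg.Agent.Lib.Helper47.ES9
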