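import Mathlib

set_option autoImplicit false

/-! ES9 piece C2.  An automorphism of odd prime power order of a cyclic 2-group is trivial.

PROOF. `MulAut D ≃* (ZMod (Nat.card D))ˣ` (`IsCyclic.mulAutMulEquiv`), `Nat.card D = 2 ^ m`, so
`Nat.card (MulAut D) = φ (2 ^ m)` is a power of 2 (`ZMod.card_units_eq_totient`, `Nat.totient_prime_pow`; `m = 0` trivial).
`orderOf α` divides `p ^ k` and a power of 2, which are coprime, so `orderOf α = 1`.
(Alternative: `α g = g ^ j` for a generator `g`.) -/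

namespace Cfsg.Agent.Lib.Helper47.ES9

theorem aut_cyclic {D : Type*} [Group D] [Finite D] (h2 : IsPGroup 2 D) (hc : IsCyclic D)
    {p : ℕ} [Fact p.Prime] (hp : p ≠ 2) (α : MulAut D) (k : ℕ) (hα : α ^ p ^ k = 1) : α = 1 := by
  have hpp : p.Prime := Fact.out
  have : Fact (Nat.Prime 2) := ⟨Nat.prime_two⟩
  obtain ⟨m, hm⟩ := IsPGroup.iff_card.1 h2
  have e := IsCyclic.mulAutMulEquiv D
  have hcard : ∃ j : ℕ, Nat.card (MulAut D) = 2 ^ j := by
    rw [Nat.card_congr e.toEquiv, hm]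
    have : NeZero (2 ^ m) := ⟨by positivity⟩
    rw [Nat.card_eq_fintype_card, ZMod.card_units_eq_totient]
    cases m with
    | zero => exact ⟨0, by simp⟩
    | succ m => exact ⟨m, by rw [Nat.totient_prime_pow_succ Nat.prime_two]; simp⟩
  obtain ⟨j, hj⟩ := hcard
  have hfin : Finite (MulAut D) := Nat.finite_of_card_ne_zero (by rw [hj]; positivity)
  have h1 : orderOf α ∣ 2 ^ j := hj ▸ orderOf_dvd_natCard α
  have h3 : orderOf α ∣ p ^ k := orderOf_dvd_of_pow_eq_one hα
  have hcop : Nat.Coprime (2 ^ j) (p ^ k) :=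
    Nat.Coprime.pow _ _ ((Nat.coprime_primes Nat.prime_two hpp).2 (Ne.symm hp))
  have h4 : orderOf α = 1 := Nat.eq_one_of_dvd_coprimes hcop h1 h3
  exact orderOf_eq_one_iff.1 h4

end Cfsg.Agent.Lib.Helper47.ES9
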