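import Mathlib

set_option autoImplicit false

/-! ES9 piece C3.  An automorphism of odd prime power order of a generalized quaternion group of order `≥ 16` is trivial.

PROOF. Put `N = 2 ^ n ≥ 4`, `m = p ^ k` (odd).  Elements are `a i`, `xa i` (`i : ZMod (2 * N)`); `orderOf (xa i) = 4`
(`QuaternionGroup.orderOf_xa`), `orderOf (a 1) = 2 * N ≥ 8` (`QuaternionGroup.orderOf_a_one`).  So `α (a 1)` (same order) is `a j`.
Then `α (a i) = a (j * i)` (`a i = a 1 ^ i.val`), by induction `(α ^ t) (a 1) = a (j ^ t)`, so `j ^ m = 1` in `ZMod (2 * N)`; `j` is a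
unit of `ZMod (2 ^ (n + 1))`, whose unit group has order `2 ^ n`, so `j ^ (2 ^ n) = 1`; `gcd (m, 2 ^ n) = 1` gives `j = 1`.  So `α` fixes
all `a i`.  `α (xa 0)` is not of the form `a i` (injectivity: `a i = α (a i)`), so `α (xa 0) = xa l = xa 0 * a l`
(`QuaternionGroup.xa_mul_a`), by induction `(α ^ t) (xa 0) = xa (t * l)`, so `m * l = 0` in `ZMod (2 ^ (n + 1))` with `m` odd (a unit),
`l = 0`.  Finally `xa i = xa 0 * a i` is fixed too; `MulEquiv.ext`. -/

namespace Cfsg.Agent.Lib.Helper47.ES9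

open QuaternionGroup in
theorem C3_a_pow {N : ℕ} (j : ZMod (2 * N)) (k : ℕ) :
    (a j : QuaternionGroup N) ^ k = a (j * (k : ZMod (2 * N))) := by
  induction k with
  | zero => simp
  | succ k ih =>
    rw [pow_succ, ih, a_mul_a]
    congr 1
    push_cast
    ring

open QuaternionGroup in
theorem aut_quat_big (n : ℕ) (hn : 2 ≤ n) {p : ℕ} [Fact p.Prime] (hp : p ≠ 2)
    (α : MulAut (QuaternionGroup (2 ^ n))) (k : ℕ) (hα : α ^ p ^ k = 1) : α = 1 := by
  have hpp : p.Prime := Fact.out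
  have hN : NeZero (2 ^ n) := ⟨by positivity⟩
  have hM : NeZero (2 * 2 ^ n) := ⟨by positivity⟩
  have h4 : 4 ≤ 2 ^ n := by
    calc 4 = 2 ^ 2 := by norm_num
      _ ≤ 2 ^ n := Nat.pow_le_pow_right (by norm_num) hn
  have hcopM : Nat.Coprime (p ^ k) (2 * 2 ^ n) := by
    rw [← pow_succ']
    exact Nat.Coprime.pow _ _ ((Nat.coprime_primes hpp Nat.prime_two).2 hp)
  -- step 1
  obtain ⟨j, hj⟩ : ∃ j, α (a 1) = a j := by
    rcases h : α (a 1) with i | i
    · exact ⟨i, rfl⟩
    · exfalso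
      have h1 : orderOf (α (a 1)) = 2 * 2 ^ n := by
        rw [MulEquiv.orderOf_eq, orderOf_a_one]
      rw [h, orderOf_xa] at h1
      omega
  have hai : ∀ i : ZMod (2 * 2 ^ n), α (a i) = a (j * i) := by
    intro i
    have h1 : (a i : QuaternionGroup (2 ^ n)) = a 1 ^ i.val := by
      rw [a_one_pow, ZMod.natCast_zmod_val]
    rw [h1, map_pow, hj, C3_a_pow, ZMod.natCast_zmod_val]
  have hpow : ∀ t : ℕ, (α ^ t) (a 1) = a (j ^ t) := by
    intro t
    induction t with
    | zero => simp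
    | succ t ih => rw [pow_succ', MulAut.mul_apply, ih, hai, pow_succ']
  have hj1 : j ^ p ^ k = 1 := by
    have h1 := hpow (p ^ k)
    rw [hα] at h1
    have h2 : (a 1 : QuaternionGroup (2 ^ n)) = a (j ^ p ^ k) := h1
    injection h2 with h3
    exact h3.symm
  have hjone : j = 1 := by
    have hne : p ^ k ≠ 0 := pow_ne_zero _ hpp.ne_zero
    set u : (ZMod (2 * 2 ^ n))ˣ := Units.ofPowEqOne j (p ^ k) hj1 hne with hu
    have hu1 : u ^ p ^ k = 1 := Units.pow_ofPowEqOne hj1 hne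
    have hu2 : u ^ 2 ^ n = 1 := by
      have h1 : Fintype.card (ZMod (2 * 2 ^ n))ˣ = 2 ^ n := by
        rw [ZMod.card_units_eq_totient, ← pow_succ', Nat.totient_prime_pow_succ Nat.prime_two]
        simp
      have h2 : u ^ Fintype.card (ZMod (2 * 2 ^ n))ˣ = 1 := pow_card_eq_one
      rwa [h1] at h2
    have h3 : u ^ Nat.gcd (p ^ k) (2 ^ n) = 1 := pow_gcd_eq_one.2 ⟨hu1, hu2⟩
    have hcop : Nat.Coprime (p ^ k) (2 ^ n) :=
      Nat.Coprime.pow _ _ ((Nat.coprime_primes hpp Nat.prime_two).2 hp)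
    rw [Nat.Coprime.gcd_eq_one hcop, pow_one] at h3
    have h4 : (u : ZMod (2 * 2 ^ n)) = j := rfl
    rw [← h4, h3, Units.val_one]
  have hfa : ∀ i : ZMod (2 * 2 ^ n), α (a i) = a i := by
    intro i
    rw [hai, hjone, one_mul]
  -- step 3
  obtain ⟨l, hl⟩ : ∃ l, α (xa 0) = xa l := by
    rcases h : α (xa 0) with i | i
    · exfalso
      have h1 : α (xa 0) = α (a i) := by rw [h, hfa]
      have h2 := α.injective h1
      cases h2
    · exact ⟨i, rfl⟩
  have hxa : ∀ m : ZMod (2 * 2 ^ n), α (xa m) = xa (l + m) := by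
    intro m
    have h1 : (xa m : QuaternionGroup (2 ^ n)) = xa 0 * a m := by rw [xa_mul_a, zero_add]
    rw [h1, map_mul, hl, hfa, xa_mul_a]
  have hpow2 : ∀ t : ℕ, (α ^ t) (xa 0) = xa ((t : ZMod (2 * 2 ^ n)) * l) := by
    intro t
    induction t with
    | zero => simp
    | succ t ih =>
      rw [pow_succ', MulAut.mul_apply, ih, hxa]
      congr 1
      push_cast
      ring
  have hl0 : l = 0 := by
    have h1 := hpow2 (p ^ k)
    rw [hα] at h1
    have h2 : (xa 0 : QuaternionGroup (2 ^ n)) = xa (((p ^ k : ℕ) : ZMod (2 * 2 ^ n)) * l) := h1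
    injection h2 with h3
    have hunit : IsUnit ((p ^ k : ℕ) : ZMod (2 * 2 ^ n)) := (ZMod.isUnit_iff_coprime _ _).2 hcopM
    exact (hunit.mul_right_eq_zero).1 h3.symm
  ext x
  change α x = x
  rcases x with i | i
  · exact hfa i
  · rw [hxa, hl0, zero_add]

end Cfsg.Agent.Lib.Helper47.ES9
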