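import Mathlib

set_option autoImplicit false

/-! ES9 piece C4.  Automorphisms of odd prime power order of `Q8`.

PROOF. Let `Q = QuaternionGroup 2`, `C = zpowers α` (a `p`-group: `IsPGroup.of_card`/`orderOf α ∣ p ^ k`), acting on `Q`.
Facts by `decide` on `Q` (8 elements): `x * x ≠ 1` for exactly 6 elements; for `x` with `x * x ≠ 1` the set `{y | y ∉ {1, x, x*x, x*x*x}}` has
4 elements, and every element of `Q` is `x ^ i * y ^ j` for any such `y`.
(1) Suppose `α x = x` with `x * x ≠ 1`.  `T = Q \ ⟨x⟩` (4 elements) is `α`-invariant, and `|T| ≡ |fixed points in T| mod p`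
(`IsPGroup.card_modEq_card_fixedPoints`, or: orbits of `zpowers α` have size a power of `p`).  As `p` is odd, `p ∤ 4`, so `α` fixes some
`y ∈ T`; then `α` fixes `⟨x, y⟩ = Q`, `α = 1`.
(2) So if `α ≠ 1` then `α` has no fixed point in `S = {x | x * x ≠ 1}` (6 elements, `α`-invariant), hence `p ∣ 6`, `p = 3`.
(Alternative brute force: `α` is determined by `(α (a 1), α (xa 0))`, 24 possibilities.) -/

namespace Cfsg.Agent.Lib.Helper47.ES9

open QuaternionGroup in
theorem C4_F1 : ∀ x y w : QuaternionGroup 2, x * x ≠ 1 →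
    ¬ (y = 1 ∨ y = x ∨ y = x * x ∨ y = x * x * x) →
    ¬ (w = 1 ∨ w = x ∨ w = x * x ∨ w = x * x * x) →
    (w = y * 1 ∨ w = y * x ∨ w = y * (x * x) ∨ w = y * (x * x * x)) := by
  decide +kernel

theorem C4_F2 : ∀ x : QuaternionGroup 2, x * x = 1 → x = 1 ∨ x = QuaternionGroup.a 2 := by
  decide +kernel

theorem C4_F3 : ∀ c : QuaternionGroup 2, c ^ 4 = 1 := by
  decide +kernel

theorem C4_fix {p : ℕ} [Fact p.Prime] (hp : p ≠ 2) (α : MulAut (QuaternionGroup 2)) (k : ℕ)
    (hα : α ^ p ^ k = 1) (x : QuaternionGroup 2) (hx : α x = x) (hxx : x * x ≠ 1) : α = 1 := by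
  have hpp : p.Prime := Fact.out
  have hX : ∀ w : QuaternionGroup 2, (w = 1 ∨ w = x ∨ w = x * x ∨ w = x * x * x) → α w = w := by
    rintro w (rfl | rfl | rfl | rfl)
    · exact map_one α
    · exact hx
    · rw [map_mul, hx]
    · rw [map_mul, map_mul, hx]
  ext y
  change α y = y
  by_cases hy : (y = 1 ∨ y = x ∨ y = x * x ∨ y = x * x * x)
  · exact hX y hy
  have hαy : ¬ (α y = 1 ∨ α y = x ∨ α y = x * x ∨ α y = x * x * x) := by
    intro h
    have h1 := hX _ h
    have h2 : α y = y := α.injective h1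
    rw [h2] at h
    exact hy h
  obtain ⟨c, hc, hyc⟩ : ∃ c : QuaternionGroup 2, α c = c ∧ α y = y * c := by
    rcases C4_F1 x y (α y) hxx hy hαy with h | h | h | h
    · exact ⟨1, map_one α, h⟩
    · exact ⟨x, hx, h⟩
    · exact ⟨x * x, hX _ (Or.inr (Or.inr (Or.inl rfl))), h⟩
    · exact ⟨x * x * x, hX _ (Or.inr (Or.inr (Or.inr rfl))), h⟩
  have hpow : ∀ t : ℕ, (α ^ t) y = y * c ^ t := by
    intro t
    induction t with
    | zero => simp
    | succ t ih =>
      rw [pow_succ', MulAut.mul_apply, ih, map_mul, map_pow, hc, hyc, mul_assoc, ← pow_succ']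
  have h1 := hpow (p ^ k)
  rw [hα] at h1
  have h2 : c ^ p ^ k = 1 := by
    have : y * 1 = y * c ^ p ^ k := by rw [mul_one]; exact h1
    exact (mul_left_cancel this).symm
  have h3 : c ^ Nat.gcd (p ^ k) 4 = 1 := pow_gcd_eq_one.2 ⟨h2, C4_F3 c⟩
  have hcop : Nat.Coprime (p ^ k) 4 := by
    apply Nat.Coprime.pow_left
    have : Nat.Coprime p (2 ^ 2) :=
      Nat.Coprime.pow_right _ ((Nat.coprime_primes hpp Nat.prime_two).2 hp)
    exact this
  rw [Nat.Coprime.gcd_eq_one hcop, pow_one] at h3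
  rw [hyc, h3, mul_one]

theorem aut_q8 {p : ℕ} [Fact p.Prime] (hp : p ≠ 2) (α : MulAut (QuaternionGroup 2)) (k : ℕ)
    (hα : α ^ p ^ k = 1) : α = 1 ∨ (p = 3 ∧ ∀ x, α x = x → x * x = 1) := by
  have hpp : p.Prime := Fact.out
  by_cases h1 : α = 1
  · exact Or.inl h1
  right
  have hfix : ∀ x, α x = x → x * x = 1 := by
    intro x hx
    by_contra hxx
    exact h1 (C4_fix hp α k hα x hx hxx)
  refine ⟨?_, hfix⟩
  have hz : ∀ β : MulAut (QuaternionGroup 2), β (QuaternionGroup.a 2) = QuaternionGroup.a 2 := by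
    intro β
    have e1 : (QuaternionGroup.a 2 : QuaternionGroup 2) * QuaternionGroup.a 2 = 1 := by decide +kernel
    have e2 : β (QuaternionGroup.a 2) * β (QuaternionGroup.a 2) = 1 := by
      rw [← map_mul, e1, map_one]
    rcases C4_F2 _ e2 with h | h
    · exfalso
      have h3 : β (QuaternionGroup.a 2) = β 1 := by rw [h, map_one]
      have h4 := β.injective h3
      revert h4
      decide +kernel
    · exact h
  have hP : IsPGroup p (Subgroup.zpowers α) := by
    obtain ⟨j, -, hj⟩ := (Nat.dvd_prime_pow hpp).1 (orderOf_dvd_of_pow_eq_one hα)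
    exact IsPGroup.of_card (n := j) (by rw [Nat.card_zpowers, hj])
  have hmod := hP.card_modEq_card_fixedPoints (QuaternionGroup 2)
  have hset : MulAction.fixedPoints (Subgroup.zpowers α) (QuaternionGroup 2)
      = {1, QuaternionGroup.a 2} := by
    ext x
    simp only [MulAction.mem_fixedPoints, Set.mem_insert_iff, Set.mem_singleton_iff]
    constructor
    · intro h
      have h2 : α x = x := h ⟨α, Subgroup.mem_zpowers α⟩
      exact C4_F2 x (hfix x h2)
    · rintro (rfl | rfl) g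
      · exact map_one (g : MulAut (QuaternionGroup 2))
      · exact hz g
  rw [hset, Nat.card_eq_fintype_card, QuaternionGroup.card, Nat.card_coe_set_eq,
    Set.ncard_pair (by decide +kernel)] at hmod
  have h6 : p ∣ 4 * 2 - 2 := (Nat.modEq_iff_dvd' (by norm_num)).1 hmod.symm
  have h7 : p ∣ 2 * 3 := by
    have : 4 * 2 - 2 = 2 * 3 := by norm_num
    rwa [this] at h6
  rcases (Nat.Prime.dvd_mul hpp).1 h7 with h | h
  · exact absurd ((Nat.prime_dvd_prime_iff_eq hpp Nat.prime_two).1 h) hp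
  · exact (Nat.prime_dvd_prime_iff_eq hpp Nat.prime_three).1 h

end Cfsg.Agent.Lib.Helper47.ES9
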