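import Mathlib
import Cfsg.Agent.Lib.Helper47.ES9.Defs
import Cfsg.Agent.Lib.Helper47.ES9.C1
import Cfsg.Agent.Lib.Helper47.ES9.C2
import Cfsg.Agent.Lib.Helper47.ES9.C3
import Cfsg.Agent.Lib.Helper47.ES9.C4

set_option autoImplicit false

/-! ES9 piece C5.  The dichotomy for an `E`-invariant subgroup `D` with at most one involution. -/

namespace Cfsg.Agent.Lib.Helper47.ES9

/-- restriction of the action of `E` to the invariant subgroup `D` -/
def C5_res {W : Type*} [Group W] (E : Subgroup (MulAut W)) (D : Subgroup W) (hD : Inv E D) :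
    ↥E →* MulAut ↥D where
  toFun e :=
    { toFun := fun x => ⟨(e : MulAut W) x, hD e e.2 x x.2⟩
      invFun := fun x => ⟨(e : MulAut W)⁻¹ x, hD _ (inv_mem e.2) x x.2⟩
      left_inv := fun x => Subtype.ext (by simp)
      right_inv := fun x => Subtype.ext (by simp)
      map_mul' := fun x y => Subtype.ext (by simp) }
  map_one' := by ext; rfl
  map_mul' := by intros; ext; rfl

theorem C5_res_apply {W : Type*} [Group W] (E : Subgroup (MulAut W)) (D : Subgroup W)
    (hD : Inv E D) (e : ↥E) (x : ↥D) : ((C5_res E D hD e x : ↥D) : W) = (e : MulAut W) x := rfl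

theorem C5_Q1 : ∀ x : QuaternionGroup 2, x * x = 1 ∨ x * x = QuaternionGroup.a 2 := by
  decide +kernel

theorem C5_Q2 : ∀ x y : QuaternionGroup 2, x * y = y * x ∨ x * y = QuaternionGroup.a 2 * (y * x) := by
  decide +kernel

theorem C5_Q3 : ∀ x : QuaternionGroup 2, x * QuaternionGroup.a 2 = QuaternionGroup.a 2 * x := by
  decide +kernel

theorem C5_Q4 : ∀ x y : QuaternionGroup 2, x * x ≠ 1 → x * y = y * x →
    y = 1 ∨ y = x ∨ y = QuaternionGroup.a 2 ∨ y = x * QuaternionGroup.a 2 := by
  decide +kernel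

theorem C5_Q5 : orderOf (QuaternionGroup.a 2 : QuaternionGroup 2) = 2 :=
  orderOf_eq_prime (by decide +kernel) (by decide +kernel)

theorem dichotomy {W : Type*} [Group W] [Finite W] (hW : IsPGroup 2 W) {p : ℕ} [Fact p.Prime]
    (hp : p ≠ 2) (E : Subgroup (MulAut W)) (hE : IsPGroup p ↥E) (D : Subgroup W) (hD : Inv E D)
    (huniq : ∀ x ∈ D, ∀ y ∈ D, orderOf x = 2 → orderOf y = 2 → x = y) :
    (∀ e ∈ E, ∀ x ∈ D, e x = x) ∨
      (p = 3 ∧ Nat.card D = 8 ∧ ∃ z ∈ D, orderOf z = 2 ∧ Nice E z D) := by
  have hr : ∀ e : ↥E, ∃ k, (C5_res E D hD e) ^ p ^ k = 1 := by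
    intro e
    obtain ⟨k, hk⟩ := hE e
    exact ⟨k, by rw [← map_pow, hk, map_one]⟩
  have hleft1 : ∀ e : ↥E, C5_res E D hD e = 1 → ∀ x ∈ D, (e : MulAut W) x = x := by
    intro e h x hx
    have h1 := DFunLike.congr_fun h ⟨x, hx⟩
    exact congrArg Subtype.val h1
  have hleft : (∀ e : ↥E, C5_res E D hD e = 1) → ∀ e ∈ E, ∀ x ∈ D, e x = x :=
    fun h e he x hx => hleft1 ⟨e, he⟩ (h _) x hx
  have hcyc : IsCyclic ↥D → ∀ e ∈ E, ∀ x ∈ D, e x = x := by
    intro hc
    apply hleft
    intro e
    obtain ⟨k, hk⟩ := hr e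
    exact aut_cyclic (hW.to_subgroup D) hc hp _ k hk
  rcases cyclic_or_quat (hW.to_subgroup D) (by
      intro x y hx hy
      apply Subtype.ext
      apply huniq _ x.2 _ y.2
      · rwa [Subgroup.orderOf_coe]
      · rwa [Subgroup.orderOf_coe]) with hc | ⟨n, ⟨φ⟩⟩
  · exact Or.inl (hcyc hc)
  obtain rfl | rfl | hn : n = 0 ∨ n = 1 ∨ 2 ≤ n := by omega
  · left
    apply hcyc
    have φ' : ↥D ≃* QuaternionGroup 1 := φ
    have := QuaternionGroup.quaternionGroup_one_isCyclic
    exact isCyclic_of_surjective φ'.symm φ'.symm.surjective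
  · let φ' : ↥D ≃* QuaternionGroup 2 := φ
    by_cases hall : ∀ e : ↥E, C5_res E D hD e = 1
    · exact Or.inl (hleft hall)
    right
    push Not at hall
    obtain ⟨e₀, he₀⟩ := hall
    have hβ : ∀ e : ↥E, C5_res E D hD e = 1 ∨
        (p = 3 ∧ ∀ x : ↥D, C5_res E D hD e x = x → x * x = 1) := by
      intro e
      obtain ⟨k, hk⟩ := hr e
      rcases aut_q8 hp (MulAut.congr φ' (C5_res E D hD e)) k (by rw [← map_pow, hk, map_one])
        with h | h
      · left
        exact (EmbeddingLike.map_eq_one_iff (f := MulAut.congr φ')).1 h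
      · right
        refine ⟨h.1, fun x hx => ?_⟩
        apply φ'.injective
        rw [map_mul, map_one]
        apply h.2
        show φ' (C5_res E D hD e (φ'.symm (φ' x))) = φ' x
        rw [φ'.symm_apply_apply, hx]
    have hp3 : p = 3 := by
      rcases hβ e₀ with h | h
      · exact absurd h he₀
      · exact h.1
    have hcard : Nat.card D = 8 := by
      rw [Nat.card_congr φ'.toEquiv, Nat.card_eq_fintype_card, QuaternionGroup.card]
    have hz : ∀ x : ↥D, φ' x = QuaternionGroup.a 2 → x = φ'.symm (QuaternionGroup.a 2) := by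
      intro x hx
      rw [← hx, φ'.symm_apply_apply]
    refine ⟨hp3, hcard, (φ'.symm (QuaternionGroup.a 2) : ↥D), SetLike.coe_mem _, ?_, ?_⟩
    · rw [Subgroup.orderOf_coe, MulEquiv.orderOf_eq, C5_Q5]
    · constructor
      · intro x hx
        rcases C5_Q1 (φ' ⟨x, hx⟩) with h | h
        · left
          have h1 : (⟨x, hx⟩ : ↥D) * ⟨x, hx⟩ = 1 := by
            apply φ'.injective
            rw [map_mul, h, map_one]
          exact congrArg Subtype.val h1
        · right
          have h1 : (⟨x, hx⟩ : ↥D) * ⟨x, hx⟩ = φ'.symm (QuaternionGroup.a 2) := by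
            apply φ'.injective
            rw [map_mul, h, φ'.apply_symm_apply]
          exact congrArg Subtype.val h1
      · intro x hx y hy
        rcases C5_Q2 (φ' ⟨x, hx⟩) (φ' ⟨y, hy⟩) with h | h
        · left
          have h1 : (⟨x, hx⟩ : ↥D) * ⟨y, hy⟩ = ⟨y, hy⟩ * ⟨x, hx⟩ := by
            apply φ'.injective
            rw [map_mul, h, map_mul]
          exact congrArg Subtype.val h1
        · right
          have h1 : (⟨x, hx⟩ : ↥D) * ⟨y, hy⟩ =
              φ'.symm (QuaternionGroup.a 2) * (⟨y, hy⟩ * ⟨x, hx⟩) := by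
            apply φ'.injective
            rw [map_mul, h, map_mul, map_mul, φ'.apply_symm_apply]
          exact congrArg Subtype.val h1
      · intro x hx
        have h1 : (⟨x, hx⟩ : ↥D) * φ'.symm (QuaternionGroup.a 2) =
            φ'.symm (QuaternionGroup.a 2) * ⟨x, hx⟩ := by
          apply φ'.injective
          rw [map_mul, map_mul, φ'.apply_symm_apply, C5_Q3]
        exact congrArg Subtype.val h1
      · exact hcard.le
      · intro e he x hx hfx hxx y hy
        rcases hβ ⟨e, he⟩ with h | h
        · exact hleft1 ⟨e, he⟩ h y hy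
        · exfalso
          apply hxx
          have h1 := h.2 ⟨x, hx⟩ (Subtype.ext hfx)
          exact congrArg Subtype.val h1
      · intro x hx y hy hxx hxy
        have h1 : φ' ⟨x, hx⟩ * φ' ⟨x, hx⟩ ≠ 1 := by
          intro h
          apply hxx
          have h2 : (⟨x, hx⟩ : ↥D) * ⟨x, hx⟩ = 1 := by
            apply φ'.injective
            rw [map_mul, h, map_one]
          exact congrArg Subtype.val h2
        have h2 : φ' ⟨x, hx⟩ * φ' ⟨y, hy⟩ = φ' ⟨y, hy⟩ * φ' ⟨x, hx⟩ := by
          rw [← map_mul, ← map_mul]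
          congr 1
          exact Subtype.ext hxy
        rcases C5_Q4 _ _ h1 h2 with h | h | h | h
        · left
          have h3 : (⟨y, hy⟩ : ↥D) = 1 := by
            apply φ'.injective
            rw [h, map_one]
          exact congrArg Subtype.val h3
        · right; left
          exact congrArg Subtype.val (φ'.injective h)
        · right; right; left
          exact congrArg Subtype.val (hz _ h)
        · right; right; right
          have h3 : (⟨y, hy⟩ : ↥D) = ⟨x, hx⟩ * φ'.symm (QuaternionGroup.a 2) := by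
            apply φ'.injective
            rw [h, map_mul, φ'.apply_symm_apply]
          exact congrArg Subtype.val h3
  · left
    apply hleft
    intro e
    obtain ⟨k, hk⟩ := hr e
    have h := aut_quat_big n hn hp (MulAut.congr φ (C5_res E D hD e)) k
      (by rw [← map_pow, hk, map_one])
    exact (EmbeddingLike.map_eq_one_iff (f := MulAut.congr φ)).1 h

end Cfsg.Agent.Lib.Helper47.ES9
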