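import Mathlib

set_option autoImplicit false

/-! ES9 piece D.  In a finite `p`-group a proper normal subgroup `N` admits `v ∉ N` central modulo `N`.

PROOF. `W ⧸ N` is a nontrivial finite `p`-group (`hW.to_quotient N`; nontrivial since `N ≠ ⊤`:
`QuotientGroup.nontrivial_iff`/`Subgroup.index_ne_one`), so its centre is nontrivial (`IsPGroup.center_nontrivial`).  Take `1 ≠ q` central,
`q = mk v`.  `v ∉ N` by `QuotientGroup.eq_one_iff`; `mk (v * w * v⁻¹ * w⁻¹) = 1` as `q` commutes with `mk w`. -/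

namespace Cfsg.Agent.Lib.Helper47.ES9

theorem exists_central_mod {W : Type*} [Group W] [Finite W] {p : ℕ} [Fact p.Prime]
    (hW : IsPGroup p W) (N : Subgroup W) [N.Normal] (hN : N ≠ ⊤) :
    ∃ v, v ∉ N ∧ ∀ w, v * w * v⁻¹ * w⁻¹ ∈ N := by
  have hq : IsPGroup p (W ⧸ N) := hW.to_quotient N
  have hnt : Nontrivial (W ⧸ N) := by
    rw [QuotientGroup.nontrivial_iff]
    exact hN
  have hc := IsPGroup.center_nontrivial hq
  obtain ⟨⟨q, hqc⟩, hq1⟩ := exists_ne (1 : Subgroup.center (W ⧸ N))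
  obtain ⟨v, rfl⟩ := QuotientGroup.mk_surjective q
  refine ⟨v, ?_, fun w => ?_⟩
  · intro hv
    apply hq1
    apply Subtype.ext
    exact (QuotientGroup.eq_one_iff v).mpr hv
  · rw [← QuotientGroup.eq_one_iff]
    have h1 := (Subgroup.mem_center_iff.mp hqc) (w : W ⧸ N)
    rw [QuotientGroup.mk_mul, QuotientGroup.mk_mul, QuotientGroup.mk_mul, QuotientGroup.mk_inv,
      QuotientGroup.mk_inv, ← h1, mul_inv_cancel_right, mul_inv_cancel]

end Cfsg.Agent.Lib.Helper47.ES9
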