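import Mathlib
import Cfsg.Agent.Lib.Helper47.ES9.Defs

set_option autoImplicit false

/-! ES9 piece E.  An `E`-invariant abelian subgroup meets a `Nice` subgroup `D` inside `{1, z}`.

PROOF. Let `x ∈ A ⊓ D`.  By `hN.sq`, `x * x = 1` or `x * x = z`.
* If `x * x ≠ 1`: `x` is not fixed by all of `E` (else `x = 1 ∨ x = z` by `hF`, and then `x * x = 1`).  Take `e ∈ E` with `e x ≠ x`.
  `e x ∈ A ⊓ D` commutes with `x`, so by `hN.self x _ (e x) _` : `e x = 1` (then `x = 1`, no), `e x = x` (no), `e x = z = e z` (then `x = z`,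
  `x * x = 1`, no) or `e x = x * z`.  In the last case `e (e x) = e x * e z = x * z * z = x`, i.e. `(e ^ 2) x = x`.  `e ^ 3 ^ k = 1` for some
  `k` (`hE ⟨e, he⟩`), `3 ^ k = 2 * t + 1`, so `x = (e ^ (2 * t + 1)) x = e ((e ^ 2) ^ t x) = e x`, contradiction.
* If `x * x = 1`: we must show `x = 1 ∨ x = z`.  Use `huniq` : `x ≠ 1` gives `orderOf x = 2` (`orderOf_eq_prime`), so `x = z`. -/

namespace Cfsg.Agent.Lib.Helper47.ES9

theorem abelian_inf_le {W : Type*} [Group W] [Finite W] (E : Subgroup (MulAut W))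
    (hE : IsPGroup 3 ↥E) (z : W) (hzz : z * z = 1) (hzfix : ∀ e ∈ E, e z = z)
    (hF : ∀ x, (∀ e ∈ E, e x = x) → x = 1 ∨ x = z)
    (D : Subgroup W) (hD : Inv E D) (hN : Nice E z D)
    (huniq : ∀ x ∈ D, orderOf x = 2 → x = z)
    (A : Subgroup W) (hA : Inv E A) (hAc : ∀ x ∈ A, ∀ y ∈ A, x * y = y * x) :
    ∀ x ∈ A ⊓ D, x = 1 ∨ x = z := by
  rintro x ⟨hxA, hxD⟩
  by_cases hxx : x * x = 1
  · by_cases hx1 : x = 1
    · exact Or.inl hx1
    · right
      apply huniq x hxD
      exact orderOf_eq_prime (by rw [pow_two]; exact hxx) hx1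
  · exfalso
    have hnf : ¬ ∀ e ∈ E, e x = x := by
      intro hall
      rcases hF x hall with h | h
      · exact hxx (by rw [h, one_mul])
      · exact hxx (by rw [h]; exact hzz)
    push Not at hnf
    obtain ⟨e, he, hex⟩ := hnf
    have hexz : e x = x * z := by
      rcases hN.self x hxD (e x) (hD e he x hxD) hxx (hAc x hxA _ (hA e he x hxA)) with h | h | h | h
      · exfalso
        have : x = 1 := by
          apply e.injective
          rw [h, map_one]
        exact hxx (by rw [this, one_mul])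
      · exact absurd h hex
      · exfalso
        have : x = z := by
          apply e.injective
          rw [h, hzfix e he]
        exact hxx (by rw [this]; exact hzz)
      · exact h
    have hee : e (e x) = x := by
      rw [hexz, map_mul, hexz, hzfix e he, mul_assoc, hzz, mul_one]
    obtain ⟨k, hk⟩ := hE ⟨e, he⟩
    have hk' : e ^ 3 ^ k = 1 := congrArg Subtype.val hk
    have hodd : Odd (3 ^ k) := Odd.pow (by decide)
    obtain ⟨t, ht⟩ := hodd
    have hpow : ∀ j : ℕ, (e ^ (2 * j)) x = x := by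
      intro j
      induction j with
      | zero => simp
      | succ j ih =>
        rw [Nat.mul_succ, pow_add, MulAut.mul_apply, pow_two, MulAut.mul_apply, hee, ih]
    apply hex
    have h1 : (e ^ (2 * t + 1)) x = x := by
      rw [← ht, hk', MulAut.one_apply]
    rw [pow_succ', MulAut.mul_apply, hpow t] at h1
    exact h1

end Cfsg.Agent.Lib.Helper47.ES9
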