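import Mathlib
import Cfsg.Prelude.Def_Transfer
import Cfsg.Agent.Lib.Helper29.Extraspecial
import Cfsg.Agent.Lib.Helper90.ESConverse
import Cfsg.Agent.Lib.Helper47.ES9.Defs

set_option autoImplicit false

/-! ES9 piece F1.  `W = U * C_W(U)` for a normal subgroup `U` with `[U, W] ≤ {1, z}`, `Z(U) ≤ {1, z}`, `U` nonabelian.

PROOF. `↥U` is extraspecial: `Cfsg.Agent.Lib.Helper90.isExtraspecial_of (⟨z, hzU⟩ : ↥U) (hW.to_subgroup U) ...` (all hypotheses are the
given ones restricted to `U`).  Its centre is `{1, z}` (card 2 and contains `z`, or directly from `hcen`).  For `w : W` let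
`α : ↥U →* ↥U`, `α y = ⟨w * y * w⁻¹, hn ..⟩`.  `y⁻¹ * α y ∈ center ↥U`: by `hUW y w`, `y * w = w * y` or `y * w = z * (w * y)`, so
`w * y * w⁻¹ = y` or `= z * y` (recall `z * z = 1`, `z` central), hence `y⁻¹ * α y ∈ {1, z}`.  `α` fixes the centre (`z` is central in `W`).
`Cfsg.Agent.Lib.Helper29.IsExtraspecial.inner_of_central` gives `u : ↥U` with `w * y * w⁻¹ = u * y * u⁻¹` for all `y ∈ U`; so `u⁻¹ * w`
commutes with every `y ∈ U`. -/

namespace Cfsg.Agent.Lib.Helper47.ES9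

theorem exists_mul_centralizer {W : Type*} [Group W] [Finite W] (hW : IsPGroup 2 W) (z : W)
    (hz1 : z ≠ 1) (hzz : z * z = 1) (hzc : ∀ w, w * z = z * w) (U : Subgroup W) (hzU : z ∈ U)
    (hn : ∀ w : W, ∀ y ∈ U, w * y * w⁻¹ ∈ U)
    (hUW : ∀ y ∈ U, ∀ w : W, y * w = w * y ∨ y * w = z * (w * y))
    (hcen : ∀ y ∈ U, (∀ q ∈ U, q * y = y * q) → y = 1 ∨ y = z)
    (hnonab : ∃ x ∈ U, ∃ y ∈ U, x * y ≠ y * x) (w : W) :
    ∃ u ∈ U, ∀ y ∈ U, (u⁻¹ * w) * y = y * (u⁻¹ * w) := by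
  have hES : Cfsg.IsExtraspecial 2 ↥U :=
    Cfsg.Agent.Lib.Helper90.isExtraspecial_of (⟨z, hzU⟩ : ↥U) (hW.to_subgroup U)
      (by intro h; exact hz1 (congrArg Subtype.val h))
      (Subtype.ext hzz)
      (fun q => Subtype.ext (hzc q))
      (fun y hy => by
        rcases hcen y y.2 (fun q hq => congrArg Subtype.val (hy ⟨q, hq⟩)) with h | h
        · left; exact Subtype.ext h
        · right; exact Subtype.ext h)
      (fun x y => by
        rcases hUW x x.2 y with h | h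
        · left; exact Subtype.ext h
        · right; exact Subtype.ext h)
      (by
        obtain ⟨x, hx, y, hy, hxy⟩ := hnonab
        exact ⟨⟨x, hx⟩, ⟨y, hy⟩, fun h => hxy (congrArg Subtype.val h)⟩)
  let α : ↥U →* ↥U :=
    { toFun := fun y => ⟨w * y * w⁻¹, hn w y y.2⟩
      map_one' := Subtype.ext (by simp)
      map_mul' := fun a b => Subtype.ext (by simp) }
  have hα : ∀ y : ↥U, ((α y : ↥U) : W) = w * y * w⁻¹ := fun y => rfl
  have hzcen : (⟨z, hzU⟩ : ↥U) ∈ Subgroup.center ↥U :=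
    Subgroup.mem_center_iff.2 (fun q => Subtype.ext (hzc q))
  have hc : ∀ y, y⁻¹ * α y ∈ Subgroup.center ↥U := by
    intro y
    rcases hUW y y.2 w with h | h
    · have : α y = y := Subtype.ext (by rw [hα, ← h]; group)
      rw [this, inv_mul_cancel]; exact Subgroup.one_mem _
    · have h1 : w * (y : W) = z * (y * w) := by
        rw [h, ← mul_assoc, hzz, one_mul]
      have : α y = y * ⟨z, hzU⟩ := Subtype.ext (by
        rw [hα, h1, Subgroup.coe_mul, hzc]; group)
      rw [this, inv_mul_cancel_left]; exact hzcen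
  have hz : ∀ y ∈ Subgroup.center ↥U, α y = y := by
    intro y hy
    apply Subtype.ext
    rw [hα]
    rcases hcen y y.2 (fun q hq => congrArg Subtype.val (Subgroup.mem_center_iff.1 hy ⟨q, hq⟩))
      with h | h
    · rw [h]; group
    · rw [h, hzc]; group
  obtain ⟨u, hu⟩ := Cfsg.Agent.Lib.Helper29.IsExtraspecial.inner_of_central hES α hc hz
  refine ⟨u, u.2, fun y hy => ?_⟩
  have h1 : w * y * w⁻¹ = u * y * (u : W)⁻¹ := congrArg Subtype.val (hu ⟨y, hy⟩)
  have h2 : w * y = u * y * (u : W)⁻¹ * w := by rw [← h1]; group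
  rw [mul_assoc, h2]; group

end Cfsg.Agent.Lib.Helper47.ES9
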