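import Mathlib
import Cfsg.Agent.Lib.Helper47.ES9.Defs
import Cfsg.Agent.Lib.Helper47.ES9.D
import Cfsg.Agent.Lib.Helper47.ES9.F1

set_option autoImplicit false

/-! ES9 piece F2.  If every `E`-invariant abelian subgroup of the 2-group `W` lies in `{1, z}` (`z` a central involution fixed by `E`), then all
commutators of `W` lie in `{1, z}`.  -/

namespace Cfsg.Agent.Lib.Helper47.ES9

open scoped commutatorElement

theorem comm_mem_of_abelian_le {W : Type*} [Group W] [Finite W] (hW : IsPGroup 2 W)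
    (E : Subgroup (MulAut W)) (z : W) (hz1 : z ≠ 1) (hzz : z * z = 1) (hzc : ∀ w, w * z = z * w)
    (hzfix : ∀ e ∈ E, e z = z)
    (hab : ∀ A : Subgroup W, Inv E A → (∀ x ∈ A, ∀ y ∈ A, x * y = y * x) → ∀ x ∈ A, x = 1 ∨ x = z) :
    ∀ x y : W, x * y = y * x ∨ x * y = z * (y * x) := by
  classical
  have : Fact (Nat.Prime 2) := ⟨Nat.prime_two⟩
  have hzinv : z⁻¹ = z := inv_eq_of_mul_eq_one_left hzz
  let Z : Subgroup W :=
    { carrier := {x | x = 1 ∨ x = z}
      one_mem' := Or.inl rfl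
      mul_mem' := by
        rintro a b (rfl | rfl) (rfl | rfl)
        · left; simp
        · right; simp
        · right; simp
        · left; exact hzz
      inv_mem' := by
        rintro a (rfl | rfl)
        · left; simp
        · right; exact hzinv }
  have hZmem : ∀ x, x ∈ Z ↔ (x = 1 ∨ x = z) := fun x => Iff.rfl
  have hZc : ∀ c ∈ Z, ∀ g : W, g * c = c * g := by
    rintro c (rfl | rfl) g
    · simp
    · exact hzc g
  have hZE : ∀ e ∈ E, ∀ c ∈ Z, e c ∈ Z := by
    rintro e he c (rfl | rfl)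
    · left; simp
    · right; exact hzfix e he
  have conv : ∀ a b : W, ⁅a, b⁆ ∈ Z ↔ (a * b = b * a ∨ a * b = z * (b * a)) := by
    intro a b
    rw [hZmem, commutatorElement_eq_one_iff_mul_comm, commutatorElement_def,
      mul_inv_eq_iff_eq_mul, mul_inv_eq_iff_eq_mul, mul_assoc z]
  have hZn : Z.Normal := ⟨fun c hc g => by rw [hZc c hc g, mul_inv_cancel_right]; exact hc⟩
  let U : Subgroup W :=
    { carrier := {u | ∀ w, ⁅u, w⁆ ∈ Z}
      one_mem' := fun w => by simp
      mul_mem' := by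
        intro a b ha hb w
        have he : ⁅a * b, w⁆ = a * ⁅b, w⁆ * a⁻¹ * ⁅a, w⁆ := by
          simp only [commutatorElement_def]; group
        rw [he, hZc _ (hb w) a, mul_inv_cancel_right]
        exact Z.mul_mem (hb w) (ha w)
      inv_mem' := by
        intro a ha w
        have he : ⁅a⁻¹, w⁆ = a⁻¹ * ⁅a, w⁆⁻¹ * a⁻¹⁻¹ := by
          simp only [commutatorElement_def]; group
        rw [he, hZc _ (Z.inv_mem (ha w)) a⁻¹, mul_inv_cancel_right]
        exact Z.inv_mem (ha w) }
  have hUmem : ∀ u, u ∈ U ↔ ∀ w, ⁅u, w⁆ ∈ Z := fun u => Iff.rfl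
  have hUn : U.Normal := ⟨fun u hu g => by
    rw [hUmem]
    intro w
    have he : ⁅g * u * g⁻¹, w⁆ = g * ⁅u, g⁻¹ * w * g⁆ * g⁻¹ := by
      simp only [commutatorElement_def]; group
    rw [he, hZc _ (hu _) g, mul_inv_cancel_right]
    exact hu _⟩
  have hzU : z ∈ U := fun w => by
    rw [commutatorElement_eq_one_iff_mul_comm.2 (hzc w).symm]; exact Z.one_mem
  have hZU : Z ≤ U := by
    rintro c (rfl | rfl)
    · exact U.one_mem
    · exact hzU
  have hUE : Inv E U := by
    intro e he u hu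
    rw [hUmem]
    intro w
    have he' : ⁅e u, w⁆ = e ⁅u, e⁻¹ w⁆ := by
      rw [map_commutatorElement, MulAut.apply_inv_self]
    rw [he']
    exact hZE e he _ (hu _)
  have hYE : Inv E (U ⊓ Subgroup.centralizer (U : Set W)) := by
    intro e he x hx
    refine Subgroup.mem_inf.2 ⟨hUE e he x hx.1, ?_⟩
    rw [Subgroup.mem_centralizer_iff]
    intro u hu
    have hu' : e⁻¹ u ∈ U := hUE e⁻¹ (E.inv_mem he) u hu
    have h1 := (Subgroup.mem_centralizer_iff.1 hx.2) _ hu'
    have h2 := congrArg e h1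
    rwa [map_mul, map_mul, MulAut.apply_inv_self] at h2
  have hY : ∀ x ∈ U ⊓ Subgroup.centralizer (U : Set W), x = 1 ∨ x = z := by
    apply hab _ hYE
    intro x hx y hy
    exact (Subgroup.mem_centralizer_iff.1 hy.2) x hx.1
  have hUtop : U = ⊤ := by
    by_contra hne
    have hZne : Z ≠ ⊤ := by
      intro h
      apply hne
      exact top_le_iff.1 (h ▸ hZU)
    obtain ⟨v0, hv0Z, hv0⟩ := exists_central_mod hW Z hZne
    have hv0U : v0 ∈ U := fun w => hv0 w
    have hnonab : ∃ x ∈ U, ∃ y ∈ U, x * y ≠ y * x := by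
      by_contra hcon
      push Not at hcon
      exact hv0Z (hab U hUE hcon v0 hv0U)
    obtain ⟨v, hvU, hv⟩ := exists_central_mod hW U hne
    obtain ⟨u, hu, hc⟩ := exists_mul_centralizer hW z hz1 hzz hzc U hzU
      (fun w y hy => hUn.conj_mem y hy w) (fun y hy w => (conv y w).1 (hy w))
      (fun y hy hq => hY y (Subgroup.mem_inf.2 ⟨hy, Subgroup.mem_centralizer_iff.2 hq⟩)) hnonab v
    have hcU : u⁻¹ * v ∈ U := by
      rw [hUmem]
      intro w
      apply hY
      refine Subgroup.mem_inf.2 ⟨?_, ?_⟩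
      · have he : ⁅u⁻¹ * v, w⁆ = u⁻¹ * (v * w * v⁻¹ * w⁻¹) * (w * u * w⁻¹) := by
          simp only [commutatorElement_def]; group
        rw [he]
        exact U.mul_mem (U.mul_mem (U.inv_mem hu) (hv w)) (hUn.conj_mem u hu w)
      · rw [Subgroup.mem_centralizer_iff]
        intro y hy
        have h1 := hc y hy
        have h2 := hc (w⁻¹ * y * w⁻¹⁻¹) (hUn.conj_mem y hy w⁻¹)
        obtain ⟨c, hcdef⟩ : ∃ c, c = u⁻¹ * v := ⟨_, rfl⟩
        rw [← hcdef] at h1 h2 ⊢
        rw [inv_inv] at h2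
        obtain ⟨t, ht⟩ : ∃ t, t = w⁻¹ * y * w := ⟨_, rfl⟩
        rw [← ht] at h2
        have hy' : y = w * t * w⁻¹ := by rw [ht]; group
        have h3 : t * c⁻¹ = c⁻¹ * t := by
          rw [eq_inv_mul_iff_mul_eq, ← mul_assoc, h2, mul_inv_cancel_right]
        have h4 : y * (w * c⁻¹ * w⁻¹) = (w * c⁻¹ * w⁻¹) * y := by
          calc y * (w * c⁻¹ * w⁻¹) = w * (t * c⁻¹) * w⁻¹ := by rw [hy']; group
            _ = w * (c⁻¹ * t) * w⁻¹ := by rw [h3]
            _ = (w * c⁻¹ * w⁻¹) * y := by rw [hy']; group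
        have he : ⁅c, w⁆ = c * (w * c⁻¹ * w⁻¹) := by
          simp only [commutatorElement_def]; group
        rw [he, ← mul_assoc, ← h1, mul_assoc, h4]; group
    apply hvU
    have : v = u * (u⁻¹ * v) := by group
    rw [this]; exact U.mul_mem hu hcU
  intro x y
  rw [← conv]
  have : x ∈ U := hUtop ▸ Subgroup.mem_top x
  exact this y

end Cfsg.Agent.Lib.Helper47.ES9
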