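import Mathlib

set_option autoImplicit false

/-! ES9 piece G.  Order bound for a group generated by four normal subgroups of order `≤ 8` with a common subgroup of order 2.

PROOF. For normal `H K ≥ Z` : `Nat.card (H ⊔ K) * Nat.card (H ⊓ K) = Nat.card H * Nat.card K`
(e.g. `Subgroup.card_mul_eq_card_subgroup_mul_card_quotient` + second isomorphism theorem `QuotientGroup.quotientInfEquivProdNormalQuotient`,
or `Subgroup.relIndex_sup_right`/`Subgroup.inf_relIndex_right`, `relIndex_mul_card`), and `2 = Nat.card Z ≤ Nat.card (H ⊓ K)`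
(`Subgroup.card_le_of_le`).  So `2 * |H ⊔ K| ≤ |H| |K|`.  Apply three times: `|H0 ⊔ H1| ≤ 32`, `|H0 ⊔ H1 ⊔ H2| ≤ 128`, `|⊤| ≤ 512`
(`H0 ⊔ H1` is normal and contains `Z`).  `Subgroup.card_top`. -/

namespace Cfsg.Agent.Lib.Helper47.ES9

theorem G_step {W : Type*} [Group W] [Finite W] (Z H K : Subgroup W) (nK : K.Normal)
    (hZ : Nat.card Z = 2) (h0 : Z ≤ H) (h1 : Z ≤ K) :
    2 * Nat.card ↥(H ⊔ K) ≤ Nat.card H * Nat.card K := by
  have h2 : 2 ≤ Nat.card ↥(H ⊓ K) := hZ ▸ Subgroup.card_le_of_le (le_inf h0 h1)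
  have h3 : Nat.card ↥(H ⊔ K) * Nat.card ↥(H ⊓ K) = Nat.card H * Nat.card K := by
    have e1 : Nat.card ↥(H ⊓ K) * (H ⊓ K).relIndex H = Nat.card H := by
      have := Subgroup.relIndex_mul_relIndex ⊥ (H ⊓ K) H bot_le inf_le_left
      rwa [Subgroup.relIndex_bot_left, Subgroup.relIndex_bot_left] at this
    have e2 : Nat.card K * K.relIndex (H ⊔ K) = Nat.card ↥(H ⊔ K) := by
      have := Subgroup.relIndex_mul_relIndex ⊥ K (H ⊔ K) bot_le le_sup_right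
      rwa [Subgroup.relIndex_bot_left, Subgroup.relIndex_bot_left] at this
    have e3 : K.relIndex (H ⊔ K) = K.relIndex H := Subgroup.relIndex_sup_right H K
    have e4 : (H ⊓ K).relIndex H = K.relIndex H := Subgroup.inf_relIndex_left H K
    rw [← e2, ← e1, e3, e4]
    ring
  calc 2 * Nat.card ↥(H ⊔ K) = Nat.card ↥(H ⊔ K) * 2 := by ring
    _ ≤ Nat.card ↥(H ⊔ K) * Nat.card ↥(H ⊓ K) := Nat.mul_le_mul_left _ h2
    _ = _ := h3

theorem card_le_of_sup {W : Type*} [Group W] [Finite W] (Z H0 H1 H2 H3 : Subgroup W)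
    (n0 : H0.Normal) (n1 : H1.Normal) (n2 : H2.Normal) (n3 : H3.Normal) (hZ : Nat.card Z = 2)
    (h0 : Z ≤ H0) (h1 : Z ≤ H1) (h2 : Z ≤ H2) (h3 : Z ≤ H3)
    (c0 : Nat.card H0 ≤ 8) (c1 : Nat.card H1 ≤ 8) (c2 : Nat.card H2 ≤ 8) (c3 : Nat.card H3 ≤ 8)
    (htop : H0 ⊔ H1 ⊔ H2 ⊔ H3 = ⊤) : Nat.card W ≤ 2 ^ 9 := by
  have s01 := G_step Z H0 H1 n1 hZ h0 h1
  have n01 : (H0 ⊔ H1).Normal := inferInstance
  have s012 := G_step Z (H0 ⊔ H1) H2 n2 hZ (h0.trans le_sup_left) h2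
  have s0123 := G_step Z (H0 ⊔ H1 ⊔ H2) H3 n3 hZ ((h0.trans le_sup_left).trans le_sup_left) h3
  rw [htop, Subgroup.card_top] at s0123
  have e1 : Nat.card H0 * Nat.card H1 ≤ 8 * 8 := Nat.mul_le_mul c0 c1
  have e2 : Nat.card ↥(H0 ⊔ H1) ≤ 32 := by omega
  have e3 : Nat.card ↥(H0 ⊔ H1) * Nat.card H2 ≤ 32 * 8 := Nat.mul_le_mul e2 c2
  have e4 : Nat.card ↥(H0 ⊔ H1 ⊔ H2) ≤ 128 := by omega
  have e5 : Nat.card ↥(H0 ⊔ H1 ⊔ H2) * Nat.card H3 ≤ 128 * 8 := Nat.mul_le_mul e4 c3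
  norm_num
  omega

end Cfsg.Agent.Lib.Helper47.ES9
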