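import Mathlib
import Cfsg.Agent.Lib.Helper47.ES9.Defs

set_option autoImplicit false

/-! ES9 piece H.  The pointwise stabilizer of a `Nice` subgroup `D` has index `≤ 3` in the 3-group `E`.

PROOF. `↥E` acts on `W` (`e • x = (e : MulAut W) x`; `MulAut.applyMulAction` + the subgroup action, `Subgroup.smul_def`, `MulAut.smul_def`).
The stabilizer of `x₀` is `ptStab E D`: `⊇` clear (`x₀ ∈ D`), `⊆` is `hN.rigid`.  So `(ptStab E D).index = Nat.card (orbit ↥E x₀)`
(`MulAction.index_stabilizer`).  The orbit lies in `S = {y ∈ D | y * y ≠ 1}` (`e x₀ ∈ D` by `hD`; `e x₀ * e x₀ = e (x₀ * x₀) ≠ 1`), and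
`S ⊆ D \ {1, z}` has at most `8 - 2 = 6` elements (`1 ≠ z`, both in `D`, `1 * 1 = 1`, `z * z = 1`, `hN.card_le`).  The index divides `Nat.card E`
(`Subgroup.index_dvd_card`), a power of 3 (`IsPGroup.iff_card`), so it is `3 ^ j` (`Nat.dvd_prime_pow`) with `3 ^ j ≤ 6`, hence `j ≤ 1`. -/

namespace Cfsg.Agent.Lib.Helper47.ES9

theorem index_ptStab_le {W : Type*} [Group W] [Finite W] (E : Subgroup (MulAut W))
    (hE : IsPGroup 3 ↥E) (z : W) (hz1 : z ≠ 1) (hzz : z * z = 1) (D : Subgroup W) (hzD : z ∈ D)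
    (hD : Inv E D) (hN : Nice E z D) (x₀ : W) (hx₀ : x₀ ∈ D) (hx₀' : x₀ * x₀ ≠ 1) :
    (ptStab E D).index ≤ 3 := by
  classical
  have hstab : MulAction.stabilizer ↥E x₀ = ptStab E D := by
    ext e
    rw [MulAction.mem_stabilizer_iff, mem_ptStab]
    constructor
    · intro h
      exact hN.rigid e e.2 x₀ hx₀ h hx₀'
    · intro h
      exact h x₀ hx₀
  have hidx : (ptStab E D).index = Nat.card (MulAction.orbit ↥E x₀) := by
    rw [← hstab, MulAction.index_stabilizer]
    rfl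
  have hsub : MulAction.orbit ↥E x₀ ⊆ ((D : Set W) \ {1, z}) := by
    rintro _ ⟨e, rfl⟩
    have hval : e • x₀ = (e : MulAut W) x₀ := rfl
    show e • x₀ ∈ _
    rw [hval]
    refine ⟨hD e e.2 x₀ hx₀, ?_⟩
    have hsq : (e : MulAut W) x₀ * (e : MulAut W) x₀ ≠ 1 := by
      rw [← map_mul]
      intro h
      apply hx₀'
      apply (e : MulAut W).injective
      rw [h, map_one]
    intro hmem
    rcases hmem with h | h
    · exact hsq (by rw [h, one_mul])
    · rw [Set.mem_singleton_iff] at h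
      exact hsq (by rw [h]; exact hzz)
  have hcard6 : Nat.card (MulAction.orbit ↥E x₀) ≤ 6 := by
    have h1 : Set.ncard (MulAction.orbit ↥E x₀) ≤ Set.ncard ((D : Set W) \ {1, z}) :=
      Set.ncard_le_ncard hsub (Set.toFinite _)
    have h2 : Set.ncard ((D : Set W) \ {1, z}) = Set.ncard (D : Set W) - Set.ncard ({1, z} : Set W) := by
      apply Set.ncard_sdiff _ (Set.toFinite _)
      intro y hy
      rcases hy with h | h
      · rw [h]; exact D.one_mem
      · rw [Set.mem_singleton_iff] at h; rw [h]; exact hzD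
    have h3 : Set.ncard ({1, z} : Set W) = 2 := Set.ncard_pair (Ne.symm hz1)
    have h4 : Set.ncard (D : Set W) ≤ 8 := hN.card_le
    have h5 : Nat.card (MulAction.orbit ↥E x₀) = Set.ncard (MulAction.orbit ↥E x₀) := rfl
    omega
  obtain ⟨m, hm⟩ := IsPGroup.iff_card.mp hE
  have hdvd : (ptStab E D).index ∣ 3 ^ m := hm ▸ Subgroup.index_dvd_card _
  obtain ⟨j, -, hj⟩ := (Nat.dvd_prime_pow Nat.prime_three).mp hdvd
  rw [hidx] at hj
  rw [hidx, hj]
  rw [hj] at hcard6
  rcases j with _ | _ | j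
  · norm_num
  · norm_num
  · exfalso
    have : 3 ^ 2 ≤ 3 ^ (j + 1 + 1) := Nat.pow_le_pow_right (by norm_num) (by omega)
    omega

end Cfsg.Agent.Lib.Helper47.ES9
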