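import Mathlib
import Cfsg.Prelude.Def_Transfer
import Cfsg.Agent.Lib.Helper63.ClassTwo
import Cfsg.Agent.Lib.Helper90.ESConverse
import Cfsg.Agent.Lib.Helper47.ES9.Defs
import Cfsg.Agent.Lib.Helper47.ES9.A
import Cfsg.Agent.Lib.Helper47.ES9.B
import Cfsg.Agent.Lib.Helper47.ES9.C5
import Cfsg.Agent.Lib.Helper47.ES9.E
import Cfsg.Agent.Lib.Helper47.ES9.F2
import Cfsg.Agent.Lib.Helper47.ES9.G
import Cfsg.Agent.Lib.Helper47.ES9.H

set_option autoImplicit false
set_option linter.unusedVariables false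

/-! # Assembly of S2934 -/

namespace Cfsg.Agent.Lib.Helper47.ES9

open Subgroup

variable {W : Type*} [Group W]

theorem eq_one_or_of_sq {z x : W} (h : x * x = 1) (hu : orderOf x = 2 → x = z) : x = 1 ∨ x = z := by
  by_cases h1 : x = 1
  · exact Or.inl h1
  · right
    apply hu
    exact orderOf_eq_prime (by rw [pow_two]; exact h) h1

theorem card_le_two_of_subset [Finite W] {z : W} (D : Subgroup W) (h : ∀ x ∈ D, x = 1 ∨ x = z) :
    Nat.card D ≤ 2 := by
  have h1 : (D : Set W) ⊆ {1, z} := by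
    intro x hx
    rcases h x hx with rfl | rfl
    · exact Set.mem_insert _ _
    · exact Set.mem_insert_of_mem _ rfl
  have h2 : (D : Set W).ncard ≤ ({1, z} : Set W).ncard := Set.ncard_le_ncard h1 (Set.toFinite _)
  have h3 : ({1, z} : Set W).ncard ≤ 2 := by
    have := Set.ncard_insert_le (1 : W) ({z} : Set W)
    rw [Set.ncard_singleton] at this
    exact this
  have h4 : Nat.card D = (D : Set W).ncard := rfl
  omega

theorem nice_of_subset [Finite W] (E : Subgroup (MulAut W)) {z : W} (hzz : z * z = 1)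
    (D : Subgroup W) (h : ∀ x ∈ D, x = 1 ∨ x = z) : Nice E z D where
  sq := by
    intro x hx
    rcases h x hx with rfl | rfl
    · left; exact mul_one 1
    · left; exact hzz
  comm := by
    intro x hx y hy
    left
    rcases h x hx with rfl | rfl <;> rcases h y hy with rfl | rfl <;> simp
  cen := by
    intro x hx
    rcases h x hx with rfl | rfl <;> simp
  card_le := (card_le_two_of_subset D h).trans (by norm_num)
  rigid := by
    intro e he x hx _ hxx
    exfalso
    rcases h x hx with rfl | rfl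
    · exact hxx (mul_one 1)
    · exact hxx hzz
  self := by
    intro x hx y hy hxx
    exfalso
    rcases h x hx with rfl | rfl
    · exact hxx (mul_one 1)
    · exact hxx hzz

theorem mem_zpowers_of_sq {z x : W} (hzz : z * z = 1) : x ∈ zpowers z ↔ x = 1 ∨ x = z := by
  constructor
  · intro hx
    obtain ⟨k, rfl⟩ := mem_zpowers_iff.1 hx
    rcases Int.even_or_odd' k with ⟨m, rfl | rfl⟩
    · left
      rw [zpow_mul, zpow_two, hzz, one_zpow]
    · right
      rw [zpow_add, zpow_mul, zpow_two, hzz, one_zpow, one_mul, zpow_one]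
  · rintro (rfl | rfl)
    · exact one_mem _
    · exact mem_zpowers _

theorem normal_of_comm {z : W} (hc : ∀ x y : W, x * y = y * x ∨ x * y = z * (y * x))
    (D : Subgroup W) (hz : z ∈ D) : D.Normal := by
  constructor
  intro x hx w
  rcases hc w x with h | h
  · rw [h, mul_inv_cancel_right]; exact hx
  · rw [h, mul_assoc, mul_inv_cancel_right]; exact mul_mem hz hx

theorem main [Finite W] (hW : IsPGroup 2 W) {p : ℕ} [Fact p.Prime] (hp : p ≠ 2)
    (E : Subgroup (MulAut W)) (hE : IsPGroup p ↥E) (hab : IsMulCommutative ↥E)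
    (hnc : ¬ IsCyclic ↥E)
    (hfix : ∀ e ∈ E, e ≠ 1 → ∀ x y : W, orderOf x = 2 → orderOf y = 2 → e x = x → e y = y → x = y) :
    Nat.card ↥E = 9 ∧ Cfsg.IsExtraspecial 2 W ∧
      (Nat.card W = 2 ^ 5 ∨ Nat.card W = 2 ^ 7 ∨ Nat.card W = 2 ^ 9) ∧
      {x : W | ∀ e ∈ E, e x = x} = (Subgroup.center W : Set W) := by
  have : Fact (Nat.Prime 2) := ⟨Nat.prime_two⟩
  have hcomm : ∀ e ∈ E, ∀ f ∈ E, e * f = f * e := by
    intro e he f hf
    exact congrArg Subtype.val (hab.is_comm.comm (⟨e, he⟩ : ↥E) ⟨f, hf⟩)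
  have hinvfix : ∀ e ∈ E, Inv E (fix e) := by
    intro e he f hf x hx
    show e (f x) = f x
    have h1 : (e * f) x = (f * e) x := by rw [hcomm e he f hf]
    rw [MulAut.mul_apply, MulAut.mul_apply, show e x = x from hx] at h1
    exact h1
  obtain ⟨a', b', ha', hb', hb1', hab1'⟩ := exists_ab (G := ↥E) hE
    (fun x y => hab.is_comm.comm x y) hnc
  obtain ⟨a, haE⟩ := a'
  obtain ⟨b, hbE⟩ := b'
  have ha : a ^ p = 1 := congrArg Subtype.val ha'
  have hb : b ^ p = 1 := congrArg Subtype.val hb'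
  have hb1 : b ≠ 1 := fun h => hb1' (Subtype.ext h)
  have hab1 : ∀ i : ℕ, a * b ^ i ≠ 1 := fun i h => hab1' i (Subtype.ext h)
  have habE : ∀ i : ℕ, a * b ^ i ∈ E := fun i => mul_mem haE (pow_mem hbE i)
  have hpW : ¬ p ∣ Nat.card W := by
    obtain ⟨n, hn⟩ := IsPGroup.iff_card.1 hW
    rw [hn]
    intro h
    exact hp ((Nat.prime_dvd_prime_iff_eq Fact.out Nat.prime_two).1 (Nat.Prime.dvd_of_dvd_pow Fact.out h))
  have hgen : ∀ X : Subgroup W, Inv E X → X ≤ (X ⊓ fix b) ⊔ ⨆ i : ℕ, X ⊓ fix (a * b ^ i) :=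
    fun X hX => gen_fix hpW a b (hcomm a haE b hbE) ha hb X (hX a haE) (hX b hbE)
  -- a general principle: to bound an invariant `X`, bound `X ⊓ fix e`
  have hbound : ∀ X Y : Subgroup W, Inv E X → (∀ e ∈ E, e ≠ 1 → X ⊓ fix e ≤ Y) → X ≤ Y := by
    intro X Y hX h
    refine (hgen X hX).trans (sup_le (h b hbE hb1) (iSup_le fun i => h _ (habE i) (hab1 i)))
  have hinvtop : Inv E ⊤ := fun _ _ _ _ => mem_top _
  have hdich := fun e (he : e ∈ E) (hne : e ≠ 1) => dichotomy hW hp E hE (fix e) (hinvfix e he)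
    (fun x hx y hy hx2 hy2 => hfix e he hne x y hx2 hy2 hx hy)
  have hfixtop : ∀ e : MulAut W, fix e = ⊤ → e = 1 := by
    intro e h
    apply MulEquiv.ext
    intro x
    have : x ∈ fix e := h ▸ mem_top x
    exact this
  -- some `e₀` acts in the quaternion way
  have hex : ∃ e₀ ∈ E, e₀ ≠ 1 ∧ ¬ (∀ e ∈ E, ∀ x ∈ fix e₀, e x = x) := by
    by_contra hcon
    push Not at hcon
    apply hb1
    apply hfixtop
    rw [eq_top_iff]
    apply hbound ⊤ (fix b) hinvtop
    intro e he hne x hx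
    exact hcon e he hne b hbE x hx.2
  obtain ⟨e₀, he₀, hne₀, hnot⟩ := hex
  obtain ⟨rfl, hcard₀, z, hzD, hz2, hN₀⟩ := (hdich e₀ he₀ hne₀).resolve_left hnot
  push Not at hnot
  obtain ⟨f₀, hf₀, y₀, hy₀, hfy₀⟩ := hnot
  have hzz : z * z = 1 := by
    rw [← pow_two, ← hz2]; exact pow_orderOf_eq_one z
  have hz1 : z ≠ 1 := by
    rintro rfl
    rw [orderOf_one] at hz2
    norm_num at hz2
  have hzfix : ∀ e ∈ E, e z = z := by
    intro e he
    refine hfix e₀ he₀ hne₀ (e z) z ?_ hz2 (hinvfix e₀ he₀ e he z hzD) hzD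
    rw [← hz2]
    exact MulEquiv.orderOf_eq e z
  have huniq : ∀ e ∈ E, e ≠ 1 → ∀ x ∈ fix e, orderOf x = 2 → x = z := by
    intro e he hne x hx hx2
    exact hfix e he hne x z hx2 hz2 hx (hzfix e he)
  have hF : ∀ x, (∀ e ∈ E, e x = x) → x = 1 ∨ x = z := by
    intro x hx
    have hx0 : x ∈ fix e₀ := hx e₀ he₀
    by_cases hxx : x * x = 1
    · exact eq_one_or_of_sq hxx (huniq e₀ he₀ hne₀ x hx0)
    · exact absurd (hN₀.rigid f₀ hf₀ x hx0 (hx f₀ hf₀) hxx y₀ hy₀) hfy₀
  have hNice : ∀ e ∈ E, e ≠ 1 → Nice E z (fix e) := by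
    intro e he hne
    rcases hdich e he hne with h | ⟨-, -, z', hz'D, hz'2, hN⟩
    · exact nice_of_subset E hzz (fix e) (fun x hx => hF x (fun f hf => h f hf x hx))
    · have : z' = z := huniq e he hne z' hz'D hz'2
      rw [this] at hN
      exact hN
  have hzc : ∀ w, w * z = z * w := by
    have h1 : (⊤ : Subgroup W) ≤ centralizer {z} := by
      apply hbound ⊤ _ hinvtop
      intro e he hne x hx
      rw [mem_centralizer_singleton_iff]
      exact (hNice e he hne).cen x hx.2
    intro w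
    have := h1 (mem_top w)
    rw [mem_centralizer_singleton_iff] at this
    exact this
  have habel : ∀ A : Subgroup W, Inv E A → (∀ x ∈ A, ∀ y ∈ A, x * y = y * x) →
      ∀ x ∈ A, x = 1 ∨ x = z := by
    intro A hA hAc x hx
    have h1 : A ≤ zpowers z := by
      apply hbound A _ hA
      intro e he hne y hy
      rw [mem_zpowers_of_sq hzz]
      exact abelian_inf_le E hE z hzz hzfix hF (fix e) (hinvfix e he) (hNice e he hne)
        (huniq e he hne) A hA hAc y hy
    exact (mem_zpowers_of_sq hzz).1 (h1 hx)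
  have hcommW := comm_mem_of_abelian_le hW E z hz1 hzz hzc hzfix habel
  have hcen : ∀ y, (∀ q, q * y = y * q) → y = 1 ∨ y = z := by
    intro y hy
    refine habel (center W) ?_ ?_ y (mem_center_iff.2 hy)
    · intro e he x hx
      rw [mem_center_iff] at hx ⊢
      intro g
      have h1 := congrArg e (hx (e⁻¹ g))
      rw [map_mul, map_mul, MulAut.apply_inv_self] at h1
      exact h1
    · intro x hx y' _
      exact ((mem_center_iff.1 hx) y').symm
  have hnonab : ∃ x y : W, x * y ≠ y * x := by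
    by_contra hcon
    push Not at hcon
    have h1 := card_le_two_of_subset (z := z) (fix e₀)
      (fun x _ => habel ⊤ hinvtop (fun x _ y _ => hcon x y) x (mem_top x))
    omega
  have hES : Cfsg.IsExtraspecial 2 W :=
    Cfsg.Agent.Lib.Helper90.isExtraspecial_of z hW hz1 hzz hzc hcen hcommW hnonab
  -- the order of `W`
  obtain ⟨n, hn1, hcardW⟩ := Cfsg.Agent.Lib.Helper63.card_of_isExtraspecial hES
  have hzfixmem : ∀ e ∈ E, z ∈ fix e := fun e he => hzfix e he
  have hle : Nat.card W ≤ 2 ^ 9 := by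
    refine card_le_of_sup (zpowers z) (fix b) (fix (a * b ^ 0)) (fix (a * b ^ 1)) (fix (a * b ^ 2))
      (normal_of_comm hcommW _ (hzfixmem _ hbE)) (normal_of_comm hcommW _ (hzfixmem _ (habE 0)))
      (normal_of_comm hcommW _ (hzfixmem _ (habE 1))) (normal_of_comm hcommW _ (hzfixmem _ (habE 2)))
      (by rw [Nat.card_zpowers, hz2]) (zpowers_le.2 (hzfixmem _ hbE)) (zpowers_le.2 (hzfixmem _ (habE 0)))
      (zpowers_le.2 (hzfixmem _ (habE 1))) (zpowers_le.2 (hzfixmem _ (habE 2)))
      (hNice _ hbE hb1).card_le (hNice _ (habE 0) (hab1 0)).card_le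
      (hNice _ (habE 1) (hab1 1)).card_le (hNice _ (habE 2) (hab1 2)).card_le ?_
    rw [eq_top_iff]
    refine (hgen ⊤ hinvtop).trans (sup_le ?_ (iSup_le fun i => ?_))
    · exact inf_le_right.trans (le_sup_left.trans (le_sup_left.trans le_sup_left))
    · refine inf_le_right.trans ?_
      have h3 : b ^ i = b ^ (i % 3) := pow_eq_pow_mod i hb
      rw [h3]
      have h4 : i % 3 < 3 := Nat.mod_lt _ (by norm_num)
      interval_cases (i % 3)
      · exact le_sup_right.trans (le_sup_left.trans le_sup_left)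
      · exact le_sup_right.trans le_sup_left
      · exact le_sup_right
  have hgt : 8 < Nat.card W := by
    by_contra hcon
    push Not at hcon
    apply hne₀
    apply hfixtop
    apply Subgroup.eq_top_of_le_card
    rw [hcard₀]
    exact hcon
  have hn : n = 2 ∨ n = 3 ∨ n = 4 := by
    rw [hcardW] at hle hgt
    have h1 : 2 * n + 1 ≤ 9 := (Nat.pow_le_pow_iff_right (by norm_num)).1 hle
    have h2 : 3 < 2 * n + 1 := by
      have : (2 : ℕ) ^ 3 < 2 ^ (2 * n + 1) := by norm_num; exact hgt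
      exact (Nat.pow_lt_pow_iff_right (by norm_num)).1 this
    omega
  -- the order of `E`
  have hex1 : ∃ e₁ ∈ E, e₁ ≠ 1 ∧ ∃ x₁ ∈ fix e₁, x₁ ∉ fix e₀ := by
    by_contra hcon
    push Not at hcon
    apply hne₀
    apply hfixtop
    rw [eq_top_iff]
    apply hbound ⊤ _ hinvtop
    intro e he hne x hx
    exact hcon e he hne x hx.2
  obtain ⟨e₁, he₁, hne₁, x₁, hx₁, hx₁'⟩ := hex1
  have hx₁sq : x₁ * x₁ ≠ 1 := by
    intro h
    rcases eq_one_or_of_sq h (huniq e₁ he₁ hne₁ x₁ hx₁) with rfl | rfl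
    · exact hx₁' (one_mem _)
    · exact hx₁' hzD
  have hy₀sq : y₀ * y₀ ≠ 1 := by
    intro h
    rcases eq_one_or_of_sq h (huniq e₀ he₀ hne₀ y₀ hy₀) with rfl | rfl
    · exact hfy₀ (map_one f₀)
    · exact hfy₀ (hzfix f₀ hf₀)
  have hi0 := index_ptStab_le E hE z hz1 hzz (fix e₀) hzD (hinvfix e₀ he₀) hN₀ y₀ hy₀ hy₀sq
  have hi1 := index_ptStab_le E hE z hz1 hzz (fix e₁) (hzfixmem e₁ he₁) (hinvfix e₁ he₁)
    (hNice e₁ he₁ hne₁) x₁ hx₁ hx₁sq
  have hinf : ptStab E (fix e₀) ⊓ ptStab E (fix e₁) = ⊥ := by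
    rw [eq_bot_iff]
    intro e he
    rw [mem_bot]
    by_contra hne
    have hne' : (e : MulAut W) ≠ 1 := fun h => hne (Subtype.ext h)
    have h0 : fix e₀ ≤ fix (e : MulAut W) := fun x hx => he.1 x hx
    have h1 : fix e₁ ≤ fix (e : MulAut W) := fun x hx => he.2 x hx
    have h2 : fix e₀ = fix (e : MulAut W) := by
      apply Subgroup.eq_of_le_of_card_ge h0
      rw [hcard₀]
      exact (hNice _ e.2 hne').card_le
    exact hx₁' (h2 ▸ h1 hx₁)
  have hEle : Nat.card ↥E ≤ 9 := by
    have h1 := Subgroup.index_inf_le (H := ptStab E (fix e₀)) (K := ptStab E (fix e₁))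
    rw [hinf, Subgroup.index_bot] at h1
    calc Nat.card ↥E ≤ (ptStab E (fix e₀)).index * (ptStab E (fix e₁)).index := h1
      _ ≤ 3 * 3 := Nat.mul_le_mul hi0 hi1
  have hE9 : Nat.card ↥E = 9 := by
    obtain ⟨m, hm⟩ := IsPGroup.iff_card.1 hE
    rw [hm] at hEle ⊢
    have hm2 : m ≤ 2 := by
      have : (3 : ℕ) ^ m ≤ 3 ^ 2 := by norm_num; exact hEle
      exact (Nat.pow_le_pow_iff_right (by norm_num)).1 this
    interval_cases m
    · exfalso
      apply hnc
      have : Subsingleton ↥E := (Nat.card_eq_one_iff_unique.1 (by rw [hm]; norm_num)).1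
      exact isCyclic_of_subsingleton
    · exfalso
      apply hnc
      exact isCyclic_of_prime_card (p := 3) (by rw [hm]; norm_num)
    · norm_num
  refine ⟨hE9, hES, ?_, ?_⟩
  · rcases hn with rfl | rfl | rfl
    · left; rw [hcardW]
    · right; left; rw [hcardW]
    · right; right; rw [hcardW]
  · ext x
    constructor
    · intro hx
      rw [SetLike.mem_coe, mem_center_iff]
      rcases hF x hx with rfl | rfl
      · intro g; simp
      · exact hzc
    · intro hx e he
      rw [SetLike.mem_coe, mem_center_iff] at hx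
      rcases hcen x hx with rfl | rfl
      · exact map_one e
      · exact hzfix e he

end Cfsg.Agent.Lib.Helper47.ES9
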